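import Mathlib
import Cfsg.Agent.Lib.Char.Induction

/-!
A weak form of block orthogonality: eigenvalues of central elements on monomial modules modulo a
prime.
-/

set_option autoImplicit false

namespace Cfsg.Agent.Char

open scoped ComplexConjugate
open Representation Module Polynomial

universe v

variable {G : Type*} [Group G]

/-- Induction principle for representations of a finite group. -/
theorem rep_induction [Finite G]
    {P : ∀ (V : Type v) [AddCommGroup V] [Module ℂ V] [FiniteDimensional ℂ V],
      Representation ℂ G V → Prop}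
    (h0 : ∀ (V : Type v) [AddCommGroup V] [Module ℂ V] [FiniteDimensional ℂ V]
      (ρ : Representation ℂ G V), Subsingleton V → P V ρ)
    (hirr : ∀ (V : Type v) [AddCommGroup V] [Module ℂ V] [FiniteDimensional ℂ V]
      (ρ : Representation ℂ G V), ρ.IsIrreducible → P V ρ)
    (hc : ∀ (V : Type v) [AddCommGroup V] [Module ℂ V] [FiniteDimensional ℂ V]
      (ρ : Representation ℂ G V) (A B : Subrepresentation ρ), IsCompl A.toSubmodule B.toSubmodule →
      P _ A.toRepresentation → P _ B.toRepresentation → P V ρ)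
    (V : Type v) [AddCommGroup V] [Module ℂ V] [FiniteDimensional ℂ V]
    (ρ : Representation ℂ G V) : P V ρ := by
  induction hn : finrank ℂ V using Nat.strong_induction_on generalizing V with
  | _ n ih =>
    by_cases h1 : ρ.IsIrreducible
    · exact hirr V ρ h1
    rcases subsingleton_or_nontrivial V with hV | hV
    · exact h0 V ρ hV
    rw [isIrreducible_iff] at h1
    push Not at h1
    obtain ⟨U, hU, hU0, hU1⟩ := h1 hV
    let A : Subrepresentation ρ := ⟨U, fun g v hv => hU g v hv⟩
    have : NeZero (Nat.card G : ℂ) := ⟨by exact_mod_cast Nat.card_pos.ne'⟩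
    obtain ⟨B, hAB⟩ := exists_isCompl A
    have hAB' : IsCompl A.toSubmodule B.toSubmodule := by
      constructor
      · rw [disjoint_iff, ← Subrepresentation.toSubmodule_inf, hAB.inf_eq_bot]; rfl
      · rw [codisjoint_iff, ← Subrepresentation.toSubmodule_sup, hAB.sup_eq_top]; rfl
    have hsum := Submodule.finrank_add_eq_of_isCompl hAB'
    have hA : finrank ℂ A.toSubmodule < n := hn ▸ Submodule.finrank_lt hU1
    have hA0 : 0 < finrank ℂ A.toSubmodule := by
      rw [Nat.pos_iff_ne_zero, Ne, Submodule.finrank_eq_zero]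
      exact hU0
    have hB : finrank ℂ B.toSubmodule < n := by omega
    exact hc V ρ A B hAB' (ih _ hA _ A.toRepresentation rfl) (ih _ hB _ B.toRepresentation rfl)

theorem floor_re_natCast (n : ℕ) : ⌊((n : ℂ)).re⌋₊ = n := by simp

/-- The characteristic polynomial of a central element on a representation. -/
theorem exists_irr_multiset_charpoly [Fintype G] {f : G → ℂ} (hf : IsClassFunction G f)
    (V : Type v) [AddCommGroup V] [Module ℂ V] [FiniteDimensional ℂ V]
    (ρ : Representation ℂ G V) :
    ∃ s : Multiset (G → ℂ), (∀ χ ∈ s, IsIrrCharacter G χ) ∧ ρ.character = s.sum ∧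
      LinearMap.charpoly (∑ g, f g • ρ g) =
        (s.map fun χ => (X - C ((∑ g, f g * χ g) / χ 1)) ^ ⌊(χ 1).re⌋₊).prod := by
  refine rep_induction (P := fun V _ _ _ ρ => ∃ s : Multiset (G → ℂ),
    (∀ χ ∈ s, IsIrrCharacter G χ) ∧ ρ.character = s.sum ∧ LinearMap.charpoly (∑ g, f g • ρ g) =
        (s.map fun χ => (X - C ((∑ g, f g * χ g) / χ 1)) ^ ⌊(χ 1).re⌋₊).prod) ?_ ?_ ?_ V ρ
  · intro V _ _ _ ρ hV
    refine ⟨0, by simp, ?_, ?_⟩
    · funext g
      have : ρ g = 0 := Subsingleton.elim _ _
      simp [Representation.character, this]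
    · have h1 := LinearMap.charpoly_monic (∑ g, f g • ρ g)
      have h2 := LinearMap.charpoly_natDegree (∑ g, f g • ρ g)
      rw [finrank_zero_of_subsingleton] at h2
      simpa using h1.natDegree_eq_zero.1 h2
  · intro V _ _ _ ρ hρ
    refine ⟨{ρ.character}, by simpa using isIrrCharacter_of_rep ρ hρ, by simp, ?_⟩
    obtain ⟨c, hc⟩ := exists_scalar_of_classFun ρ hρ hf
    have h1 := irr_one_ne_zero (isIrrCharacter_of_rep ρ hρ)
    have h2 : ∑ g, f g * ρ.character g = c * ρ.character 1 := by
      have := congrArg (LinearMap.trace ℂ V) hc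
      simpa [Representation.character] using this
    rw [Multiset.map_singleton, Multiset.prod_singleton, h2, mul_div_cancel_right₀ _ h1, hc,
      ρ.char_one, floor_re_natCast, ← LinearMap.charpoly_toMatrix _ (Module.finBasis ℂ V)]
    rw [map_smul, LinearMap.toMatrix_one, Matrix.smul_one_eq_diagonal, Matrix.charpoly_diagonal]
    simp
  · intro V _ _ _ ρ A B hAB hA hB
    obtain ⟨s, hs, hs', hs''⟩ := hA
    obtain ⟨t, ht, ht', ht''⟩ := hB
    refine ⟨s + t, fun χ hχ => ?_, ?_, ?_⟩
    · rcases Multiset.mem_add.1 hχ with h | h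
      · exact hs χ h
      · exact ht χ h
    · rw [character_eq_add_of_isCompl ρ A B hAB, hs', ht', Multiset.sum_add]
    · rw [Multiset.map_add, Multiset.prod_add, ← hs'', ← ht'', ← LinearMap.charpoly_prodMap,
        ← LinearEquiv.charpoly_conj (Submodule.prodEquivOfIsCompl _ _ hAB)]
      congr 1
      ext v
      obtain ⟨⟨a, b⟩, rfl⟩ := (Submodule.prodEquivOfIsCompl _ _ hAB).surjective v
      rw [LinearEquiv.conj_apply_apply, LinearEquiv.symm_apply_apply]
      simp [Subrepresentation.toRepresentation, LinearMap.sum_apply, Finset.sum_add_distrib]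

/-- Sums over a decomposition into irreducible characters in terms of multiplicities. -/
theorem multiset_map_sum_eq [Fintype G] (s : Multiset (G → ℂ)) (hs : ∀ χ ∈ s, IsIrrCharacter G χ)
    (w : (G → ℂ) → ℂ) :
    (s.map w).sum = ∑ χ : IrrCharacter G, classInner s.sum χ.1 * w χ.1 := by
  induction s using Multiset.induction_on with
  | empty => simp [classInner_zero_left]
  | cons a s ih =>
    have ha := hs a (Multiset.mem_cons_self a s)
    rw [Multiset.map_cons, Multiset.sum_cons, Multiset.sum_cons,
      ih fun χ hχ => hs χ (Multiset.mem_cons_of_mem hχ)]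
    simp only [classInner_add_left, add_mul, Finset.sum_add_distrib]
    congr 1
    rw [Finset.sum_eq_single ⟨a, ha⟩, classInner_irr_self ha, one_mul]
    · intro χ _ hne
      rw [classInner_irr_ne ha χ.2 (fun h => hne (Subtype.ext h.symm)), zero_mul]
    · intro h; exact absurd (Finset.mem_univ _) h

open Classical in
/-- The monomial matrices attached to a linear character of a subgroup. -/
noncomputable def monoMat {A : Type*} [CommRing A] (Y : Subgroup G) (l : Y →* A) (g : G) :
    Matrix (G ⧸ Y) (G ⧸ Y) A :=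
  fun q' q => if h : q'.out⁻¹ * g * q.out ∈ Y then l ⟨_, h⟩ else 0

theorem monoMat_map {A B : Type*} [CommRing A] [CommRing B] (Y : Subgroup G) (l : Y →* A)
    (φ : A →+* B) (g : G) : (monoMat Y l g).map φ = monoMat Y (φ.toMonoidHom.comp l) g := by
  ext q' q
  simp only [monoMat, Matrix.map_apply]
  split_ifs <;> simp

theorem out_mem_iff (Y : Subgroup G) (g : G) (q' q : G ⧸ Y) :
    q'.out⁻¹ * g * q.out ∈ Y ↔ q' = g • q := by
  rw [mul_assoc, ← QuotientGroup.eq, QuotientGroup.out_eq']
  conv_rhs => rw [← QuotientGroup.out_eq' q, MulAction.Quotient.smul_mk, smul_eq_mul]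

theorem monoMat_one {A : Type*} [CommRing A] (Y : Subgroup G) [DecidableEq (G ⧸ Y)] (l : Y →* A) :
    monoMat Y l 1 = 1 := by
  ext q' q
  simp only [monoMat, Matrix.one_apply]
  split_ifs with h1 h2 h2
  · subst h2
    rw [← map_one l]
    congr 1
    ext; simp
  · exact absurd (by simpa using (out_mem_iff Y 1 q' q).1 h1) h2
  · exact absurd ((out_mem_iff Y 1 q' q).2 (by simpa using h2)) h1
  · rfl

theorem monoMat_mul {A : Type*} [CommRing A] (Y : Subgroup G) [Fintype (G ⧸ Y)] (l : Y →* A)
    (g h : G) : monoMat Y l (g * h) = monoMat Y l g * monoMat Y l h := by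
  ext q' q
  rw [Matrix.mul_apply, Finset.sum_eq_single (h • q)]
  · have h1 := (out_mem_iff Y h (h • q) q).2 rfl
    simp only [monoMat, dif_pos h1]
    split_ifs with h2 h3 h3
    · rw [← map_mul]
      congr 1
      ext; simp [mul_assoc]
    · rw [out_mem_iff] at h2 h3
      exact absurd (by rw [h2, mul_smul]) h3
    · rw [out_mem_iff] at h2 h3
      exact absurd (by rw [h3, mul_smul]) h2
    · simp
  · intro b _ hb
    have : ¬ b.out⁻¹ * h * q.out ∈ Y := by rwa [out_mem_iff]
    simp only [monoMat, dif_neg this, mul_zero]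
  · intro h; exact absurd (Finset.mem_univ _) h

/-- The monomial representation induced from a linear character of a subgroup. -/
noncomputable def monoRep (Y : Subgroup G) [Fintype (G ⧸ Y)] [DecidableEq (G ⧸ Y)] (l : Y →* ℂ) :
    Representation ℂ G (G ⧸ Y → ℂ) where
  toFun g := Matrix.toLin' (monoMat Y l g)
  map_one' := by rw [monoMat_one, Matrix.toLin'_one]; rfl
  map_mul' g h := by rw [monoMat_mul, Matrix.toLin'_mul]; rfl

theorem classInner_monoRep [Fintype G] (Y : Subgroup G) [Fintype Y] [Fintype (G ⧸ Y)]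
    [DecidableEq (G ⧸ Y)] (l : Y →* ℂ) {χ : G → ℂ} (hχ : IsClassFunction G χ) :
    classInner (monoRep Y l).character χ = classInner (fun y => l y) (fun y : Y => χ y) := by
  have h1 : ∀ g, (monoRep Y l).character g =
      ∑ q : G ⧸ Y, extendByZero Y (fun y => l y) (q.out⁻¹ * g * q.out) := by
    intro g
    change LinearMap.trace ℂ _ (Matrix.toLin' (monoMat Y l g)) = _
    rw [Matrix.trace_toLin'_eq, Matrix.trace]
    refine Finset.sum_congr rfl fun q _ => ?_
    simp only [Matrix.diag, monoMat]
    split_ifs with h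
    · rw [extendByZero_of_mem _ _ h]
    · rw [extendByZero_of_not_mem _ _ h]
  have key : ∀ x : G, ∑ g : G, extendByZero Y (fun y => l y) (x⁻¹ * g * x) * conj (χ g) =
      ∑ h : Y, l h * conj (χ h) := by
    intro x
    rw [← sum_extendByZero_mul Y (fun y => l y) fun g => conj (χ g)]
    refine Fintype.sum_equiv (MulAut.conj x⁻¹).toEquiv _ _ fun g => ?_
    simp only [MulEquiv.toEquiv_eq_coe, EquivLike.coe_coe, MulAut.conj_apply, hχ g x⁻¹]
    rw [inv_inv]
  simp only [classInner, h1, Finset.sum_mul]
  rw [Finset.sum_comm]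
  simp only [key, Finset.sum_const, Finset.card_univ, nsmul_eq_mul, Fintype.card_eq_nat_card]
  rw [Subgroup.card_eq_card_quotient_mul_card_subgroup Y]
  have := natCard_ne_zero_complex Y
  have := natCard_ne_zero_complex (G ⧸ Y)
  push_cast
  field_simp

open Classical in
theorem count_roots_prod {k ι : Type*} [Field k] (s : Multiset ι) (a : ι → k) (d : ι → ℕ) (c : k) :
    (s.map fun i => (X - C (a i)) ^ d i).prod.roots.count c =
      (s.map fun i => if a i = c then d i else 0).sum := by
  induction s using Multiset.induction_on with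
  | empty => simp
  | cons i s ih =>
    have h1 : (s.map fun i => (X - C (a i)) ^ d i).prod ≠ 0 :=
      (monic_multiset_prod_of_monic _ _ fun i _ => (monic_X_sub_C _).pow _).ne_zero
    rw [Multiset.map_cons, Multiset.prod_cons, Multiset.map_cons, Multiset.sum_cons,
      roots_mul (mul_ne_zero ((monic_X_sub_C _).pow _).ne_zero h1), Multiset.count_add, ih,
      roots_pow, roots_X_sub_C, Multiset.count_nsmul, Multiset.count_singleton]
    congr 1
    by_cases h : a i = c
    · simp [h]
    · simp [h, Ne.symm h]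

open Classical in
theorem count_roots_monoMat [Fintype G] {k : Type*} [Field k] (φ : integralClosure ℤ ℂ →+* k)
    (f : G → integralClosure ℤ ℂ) (hf : IsClassFunction G fun g => f g)
    (ω : IrrCharacter G → integralClosure ℤ ℂ)
    (hω : ∀ χ, (ω χ : ℂ) = (∑ g, f g * χ.1 g) / χ.1 1) (Y : Subgroup G)
    (l : Y →* integralClosure ℤ ℂ) (c : k) :
    (((∑ g, φ (f g) • monoMat Y (φ.toMonoidHom.comp l) g).charpoly.roots.count c : ℕ) : ℂ) =
      ∑ χ : IrrCharacter G, if φ (ω χ) = c then
        χ.1 1 * classInner (fun y => (l y : ℂ)) (fun y : Y => χ.1 y) else 0 := by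
  let ι : integralClosure ℤ ℂ →+* ℂ := algebraMap _ _
  have hι : Function.Injective ι := Subtype.val_injective
  obtain ⟨s, hs, h1, h2⟩ := exists_irr_multiset_charpoly hf _ (monoRep Y (ι.toMonoidHom.comp l))
  let ω' : (G → ℂ) → integralClosure ℤ ℂ := fun χ => if h : IsIrrCharacter G χ then ω ⟨χ, h⟩ else 0
  have h3 : (∑ g, f g • monoMat Y l g).charpoly =
      (s.map fun χ => (X - C (ω' χ)) ^ ⌊(χ 1).re⌋₊).prod := by
    apply Polynomial.map_injective ι hι
    rw [← Matrix.charpoly_map, Polynomial.map_multiset_prod, Multiset.map_map]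
    have e : (∑ g, f g • monoMat Y l g).map ι =
        ∑ g, (f g : ℂ) • monoMat Y (ι.toMonoidHom.comp l) g := by
      simp only [← monoMat_map]
      ext q' q
      simp [Matrix.sum_apply, ι]
    rw [e, ← Matrix.charpoly_toLin', map_sum]
    simp only [map_smul]
    refine h2.trans (congrArg _ (Multiset.map_congr rfl fun χ hχ => ?_))
    simp only [Function.comp, Polynomial.map_pow, Polynomial.map_sub, map_X, map_C, ω',
      dif_pos (hs χ hχ)]
    rw [← hω ⟨χ, hs χ hχ⟩]
    rfl
  have e : ∑ g, φ (f g) • monoMat Y (φ.toMonoidHom.comp l) g =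
      (∑ g, f g • monoMat Y l g).map φ := by
    simp only [← monoMat_map]
    ext q' q
    simp [Matrix.sum_apply]
  rw [e, Matrix.charpoly_map, h3, Polynomial.map_multiset_prod, Multiset.map_map]
  simp only [Function.comp, Polynomial.map_pow, Polynomial.map_sub, map_X, map_C]
  rw [count_roots_prod, Nat.cast_multiset_sum, Multiset.map_map, multiset_map_sum_eq s hs]
  refine Finset.sum_congr rfl fun χ _ => ?_
  obtain ⟨n, hn⟩ := char_one_eq_nat (isCharacter_of_irr χ.2)
  rw [← h1, classInner_monoRep Y _ (char_isClassFunction (isCharacter_of_irr χ.2))]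
  simp only [Function.comp, ω', dif_pos χ.2, hn, floor_re_natCast]
  split_ifs
  · rw [mul_comm]; rfl
  · simp

open Classical in
/-- Weak block orthogonality: linear characters of a subgroup that agree modulo a prime occur
equally often in the part of the regular character cut out by a central character value. -/
theorem block_mult_eq [Fintype G] {k : Type*} [Field k] (φ : integralClosure ℤ ℂ →+* k)
    (f : G → integralClosure ℤ ℂ) (hf : IsClassFunction G fun g => f g)
    (ω : IrrCharacter G → integralClosure ℤ ℂ)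
    (hω : ∀ χ, (ω χ : ℂ) = (∑ g, f g * χ.1 g) / χ.1 1) (Y : Subgroup G)
    (l m : Y →* integralClosure ℤ ℂ) (hlm : ∀ y, φ (l y) = φ (m y)) (c : k) :
    (∑ χ : IrrCharacter G, if φ (ω χ) = c then
        χ.1 1 * classInner (fun y => (l y : ℂ)) (fun y : Y => χ.1 y) else 0) =
      ∑ χ : IrrCharacter G, if φ (ω χ) = c then
        χ.1 1 * classInner (fun y => (m y : ℂ)) (fun y : Y => χ.1 y) else 0 := by
  rw [← count_roots_monoMat φ f hf ω hω Y l c, ← count_roots_monoMat φ f hf ω hω Y m c]
  have : φ.toMonoidHom.comp l = φ.toMonoidHom.comp m := MonoidHom.ext hlm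
  rw [this]

end Cfsg.Agent.Char
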