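import Mathlib
import Cfsg.Agent.Lib.Char.Block
import Cfsg.Agent.Lib.Core.Fitting
import Cfsg.Agent.Lib.Cls.Basic

/-!
Kazarin's theorem: an element whose conjugacy class has prime power size lies in the solvable
radical.
-/

set_option autoImplicit false

namespace Cfsg.Agent.Char

open Subgroup

universe u

variable {G : Type*} [Group G]

/-- A residue field of characteristic `r` of the ring of algebraic integers. -/
theorem exists_residue_field {r : ℕ} (hr : r.Prime) :
    ∃ (k : Type) (_ : Field k) (_ : CharP k r), Nonempty (integralClosure ℤ ℂ →+* k) := by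
  have hne : Ideal.span {(r : integralClosure ℤ ℂ)} ≠ ⊤ := by
    intro h
    rw [Ideal.span_singleton_eq_top] at h
    obtain ⟨v, hv⟩ := h.exists_right_inv
    have hv' : (r : ℂ) * (v : ℂ) = 1 := by
      have := congrArg (fun z : integralClosure ℤ ℂ => (z : ℂ)) hv
      simpa using this
    have hr0 : (r : ℂ) ≠ 0 := by exact_mod_cast hr.ne_zero
    have h3 : IsIntegral ℤ (((1 : ℕ) : ℂ) / r) := by
      have : (((1 : ℕ) : ℂ) / r) = v := by
        rw [div_eq_iff hr0, mul_comm, hv']; simp
      rw [this]; exact v.2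
    exact hr.one_lt.ne' (Nat.dvd_one.1 (dvd_of_isIntegral_div hr.ne_zero h3))
  obtain ⟨P, hP, hle⟩ := Ideal.exists_le_maximal _ hne
  let : Field (integralClosure ℤ ℂ ⧸ P) := Ideal.Quotient.field P
  have : Fact r.Prime := ⟨hr⟩
  refine ⟨integralClosure ℤ ℂ ⧸ P, inferInstance, ?_, ⟨Ideal.Quotient.mk P⟩⟩
  rw [CharP.charP_iff_prime_eq_zero hr]
  have : (Ideal.Quotient.mk P) (r : integralClosure ℤ ℂ) = 0 :=
    Ideal.Quotient.eq_zero_iff_mem.2 (hle (Ideal.subset_span rfl))
  simpa using this

theorem isIntegral_of_pow_eq_one {c : ℂ} {n : ℕ} (hn : n ≠ 0) (h : c ^ n = 1) : IsIntegral ℤ c :=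
  IsIntegral.of_pow (Nat.pos_of_ne_zero hn) (h ▸ isIntegral_one)

/-- A root of unity of order prime to `r` which is `1` modulo a prime above `r` is `1`. -/
theorem eq_one_of_map_eq_one {k : Type*} [Field k] {r : ℕ} [CharP k r]
    (φ : integralClosure ℤ ℂ →+* k) {c : integralClosure ℤ ℂ} {n : ℕ} (hn : ¬ r ∣ n)
    (h : c ^ n = 1) (h1 : φ c = 1) : c = 1 := by
  by_contra hc
  have h2 : (∑ i ∈ Finset.range n, c ^ i) * (c - 1) = 0 := by rw [geom_sum_mul, h, sub_self]
  have h3 : ∑ i ∈ Finset.range n, c ^ i = 0 :=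
    (mul_eq_zero.1 h2).resolve_right (sub_ne_zero.2 hc)
  have h4 := congrArg φ h3
  simp only [map_sum, map_pow, h1, one_pow, Finset.sum_const, Finset.card_range, nsmul_eq_mul,
    mul_one, map_zero] at h4
  exact hn ((CharP.cast_eq_zero_iff k r n).1 h4)

/-- The key step of Kazarin's theorem. -/
theorem not_dvd_card_of_normalClosure_eq_top [Finite G] {x : G}
    (hx : normalClosure ({x} : Set G) = ⊤) {p k : ℕ} (hp : p.Prime)
    (hk : (centralizer ({x} : Set G)).index = p ^ k) {r : ℕ} (hr : r.Prime) (hrp : r ≠ p)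
    (hrx : ¬ r ∣ orderOf x) : ¬ r ∣ Nat.card G := by
  classical
  intro hdvd
  have := Fintype.ofFinite G
  have : Fact r.Prime := ⟨hr⟩
  obtain ⟨y, hy⟩ := exists_prime_orderOf_dvd_card' r hdvd
  obtain ⟨F, _, _, ⟨φ⟩⟩ := exists_residue_field hr
  set Y := zpowers y with hY
  have hy1 : (⟨y, mem_zpowers y⟩ : Y) ≠ 1 := by
    intro h
    have : y = 1 := congrArg Subtype.val h
    rw [this, orderOf_one] at hy
    exact hr.one_lt.ne hy
  obtain ⟨μ, hμ, hμy⟩ := exists_irr_apply_ne hy1
  have hμ1 : μ 1 = 1 := irr_one_eq_one_of_comm hμ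
  obtain ⟨m₀, hm₀⟩ := exists_hom_of_one (isCharacter_of_irr hμ) hμ1
  have hYr : ∀ z : Y, z ^ r = 1 := fun z => by
    have : Nat.card Y = r := by rw [hY, Nat.card_zpowers, hy]
    rw [← this, pow_card_eq_one']
  have hint : ∀ z : Y, IsIntegral ℤ (m₀ z) := fun z =>
    isIntegral_of_pow_eq_one hr.ne_zero (by rw [← map_pow, hYr, map_one])
  let m : Y →* integralClosure ℤ ℂ :=
    { toFun := fun z => ⟨m₀ z, hint z⟩
      map_one' := Subtype.ext (map_one m₀)
      map_mul' := fun a b => Subtype.ext (map_mul m₀ a b) }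
  have hm : ∀ z, φ ((1 : Y →* integralClosure ℤ ℂ) z) = φ (m z) := fun z => by
    have h1 : φ (m z) ^ r = 1 := by rw [← map_pow, ← map_pow, hYr, map_one, map_one]
    have h2 : (φ (m z) - 1) ^ r = 0 := by rw [sub_pow_char, h1, one_pow, sub_self]
    rw [MonoidHom.one_apply, map_one, eq_comm, ← sub_eq_zero]
    exact pow_eq_zero_iff hr.ne_zero |>.1 h2
  let f : G → integralClosure ℤ ℂ := fun g => if IsConj x g then 1 else 0
  have hf : IsClassFunction G fun g => (f g : ℂ) := fun a z => by
    have : IsConj x (z * a * z⁻¹) ↔ IsConj x a :=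
      ⟨fun h => h.trans (isConj_iff.2 ⟨z⁻¹, by group⟩), fun h => h.trans (isConj_iff.2 ⟨z, rfl⟩)⟩
    simp only [f, this]
  let ω : IrrCharacter G → integralClosure ℤ ℂ := fun χ =>
    ⟨((centralizer ({x} : Set G)).index : ℂ) * χ.1 x / χ.1 1, isIntegral_centralChar χ.2 x⟩
  have hω : ∀ χ, (ω χ : ℂ) = (∑ g, f g * χ.1 g) / χ.1 1 := fun χ => by
    have hc := char_isClassFunction (isCharacter_of_irr χ.2)
    change ((centralizer ({x} : Set G)).index : ℂ) * χ.1 x / χ.1 1 = _
    congr 1
    rw [← card_isConj_eq_index, Nat.card_eq_fintype_card, Fintype.card_subtype, ← Finset.sum_boole,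
      Finset.sum_mul]
    refine Finset.sum_congr rfl fun y _ => ?_
    simp only [f]
    split_ifs with h
    · rw [classFun_of_isConj hc h]; simp
    · simp
  have hc0 : ((p : F) ^ k) ≠ 0 := by
    refine pow_ne_zero _ fun h => hrp ?_
    exact ((Nat.prime_dvd_prime_iff_eq hr hp).1 ((CharP.cast_eq_zero_iff F r p).1 h))
  have key := block_mult_eq φ f hf ω hω Y 1 m hm ((p : F) ^ k)
  -- the other characters of the block have degree divisible by `p`
  have hdeg : ∀ χ : IrrCharacter G, χ ≠ ⟨1, isIrrCharacter_one⟩ → φ (ω χ) = (p : F) ^ k →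
      ∃ n : ℕ, χ.1 1 = p * n := fun χ hχ1 hχ => by
    obtain ⟨n, hn⟩ := char_one_eq_nat (isCharacter_of_irr χ.2)
    by_cases hd : p ∣ n
    · obtain ⟨j, rfl⟩ := hd
      exact ⟨j, by rw [hn, Nat.cast_mul]⟩
    exfalso
    have hcop : n.Coprime (centralizer ({x} : Set G)).index := by
      rw [hk]; exact ((hp.coprime_iff_not_dvd.2 hd).symm).pow_right _
    have h10 := irr_one_ne_zero χ.2
    rcases irr_eq_zero_or_mem_center χ.2 hn x hcop with h | ⟨c, -, hc⟩
    · have : ω χ = 0 := Subtype.ext (by simp [ω, h])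
      rw [this, map_zero] at hχ
      exact hc0 hχ.symm
    · have hpow : ∀ j : ℕ, χ.1 (x ^ j) = c ^ j * χ.1 1 := fun j => by
        induction j with
        | zero => simp
        | succ j ih => rw [pow_succ, hc, ih]; ring
      have hco : c ^ orderOf x = 1 := by
        have := hpow (orderOf x)
        rw [pow_orderOf_eq_one] at this
        exact (mul_eq_right₀ h10).1 this.symm
      have ho : orderOf x ≠ 0 := (orderOf_pos x).ne'
      let c' : integralClosure ℤ ℂ := ⟨c, isIntegral_of_pow_eq_one ho hco⟩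
      have hωc : ω χ = (p : integralClosure ℤ ℂ) ^ k * c' := by
        refine Subtype.ext ?_
        have := hpow 1
        rw [pow_one, pow_one] at this
        change ((centralizer ({x} : Set G)).index : ℂ) * χ.1 x / χ.1 1 = _
        rw [this, hk, ← mul_assoc, mul_div_cancel_right₀ _ h10]
        simp [c']
      rw [hωc, map_mul, map_pow, map_natCast] at hχ
      have hc1 : c' = 1 := eq_one_of_map_eq_one φ hrx (Subtype.ext (by simpa [c'] using hco))
        ((mul_eq_left₀ hc0).1 hχ)
      have hc1' : c = 1 := congrArg Subtype.val hc1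
      have hker : x ∈ charKer χ.1 := fun z => by rw [hc, hc1', one_mul]
      have := charKer_normal (char_isClassFunction (isCharacter_of_irr χ.2))
      have htop : charKer χ.1 = ⊤ := by
        rw [eq_top_iff, ← hx]
        exact normalClosure_le_normal (Set.singleton_subset_iff.2 hker)
      exact hχ1 (Subtype.ext (irr_eq_one_of_charKer_eq_top χ.2 htop))
  have hsum : ∀ l : Y →* integralClosure ℤ ℂ, ∃ N : ℕ,
      (∑ χ ∈ (Finset.univ : Finset (IrrCharacter G)).erase ⟨1, isIrrCharacter_one⟩,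
        if φ (ω χ) = (p : F) ^ k then
          χ.1 1 * classInner (fun y => (l y : ℂ)) (fun y : Y => χ.1 y) else 0) = p * N := by
    intro l
    have hl : IsCharacter Y fun y => (l y : ℂ) :=
      isCharacter_of_irr (isIrrCharacter_of_hom
        ((integralClosure ℤ ℂ).val.toRingHom.toMonoidHom.comp l))
    refine Finset.sum_induction _ (fun z : ℂ => ∃ N : ℕ, z = p * N) ?_ ⟨0, by simp⟩ ?_
    · rintro _ _ ⟨a, rfl⟩ ⟨b, rfl⟩
      exact ⟨a + b, by push_cast; ring⟩
    · intro χ hχ
      split_ifs with h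
      · obtain ⟨n, hn⟩ := hdeg χ (Finset.mem_erase.1 hχ).1 h
        obtain ⟨j, hj⟩ := classInner_char_nat hl (isCharacter_restrict Y (isCharacter_of_irr χ.2))
        exact ⟨n * j, by rw [hn, hj]; push_cast; ring⟩
      · exact ⟨0, by simp⟩
  have hω1 : φ (ω ⟨1, isIrrCharacter_one⟩) = (p : F) ^ k := by
    have : ω ⟨1, isIrrCharacter_one⟩ = (p : integralClosure ℤ ℂ) ^ k :=
      Subtype.ext (by simp [ω, hk])
    rw [this, map_pow, map_natCast]
  rw [← Finset.add_sum_erase _ _ (Finset.mem_univ ⟨1, isIrrCharacter_one⟩),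
    ← Finset.add_sum_erase _ _ (Finset.mem_univ ⟨1, isIrrCharacter_one⟩), if_pos hω1,
    if_pos hω1] at key
  obtain ⟨a, ha⟩ := hsum 1
  obtain ⟨b, hb⟩ := hsum m
  rw [ha, hb] at key
  have e1 : ∀ [Fintype Y], classInner (fun y => ((1 : Y →* integralClosure ℤ ℂ) y : ℂ))
      (fun y : Y => (1 : G → ℂ) y) = 1 := classInner_irr_self (isIrrCharacter_one (G := Y))
  have e2 : ∀ [Fintype Y], classInner (fun y => (m y : ℂ)) (fun y : Y => (1 : G → ℂ) y) = 0 := by
    intro _
    have hne : μ ≠ 1 := fun h => hμy (by rw [h]; rfl)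
    have := classInner_irr_ne hμ (isIrrCharacter_one (G := Y)) hne
    rw [hm₀] at this
    exact this
  dsimp only at key
  rw [e1, e2, Pi.one_apply, mul_one, mul_zero, zero_add] at key
  have key' : 1 + p * a = p * b := by exact_mod_cast key
  have : p ∣ 1 := (Nat.dvd_add_left (dvd_mul_right p a)).1 (key' ▸ dvd_mul_right p b)
  exact hp.one_lt.ne' (Nat.dvd_one.1 this)

theorem kazarin_aux {p q : ℕ} (hp : p.Prime) (hq : q.Prime) (n : ℕ) :
    ∀ (G : Type u) [Group G] [Finite G], Nat.card G = n → ∀ x : G, (∃ j, orderOf x = q ^ j) →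
      (∃ k, (centralizer ({x} : Set G)).index = p ^ k) → x ∈ solvableRadical G := by
  induction n using Nat.strong_induction_on with
  | _ n ih =>
  intro G _ _ hn x ⟨j, hj⟩ ⟨k, hk⟩
  by_cases htop : normalClosure ({x} : Set G) = ⊤
  · have : Group.IsSolvable G := solvable_of_two_primes hp hq fun r hr hdvd => by
      by_contra hcon
      push Not at hcon
      refine not_dvd_card_of_normalClosure_eq_top htop hp hk hr hcon.1 ?_ hdvd
      rw [hj]
      exact fun h => hcon.2 ((Nat.prime_dvd_prime_iff_eq hr hq).1 (hr.dvd_of_dvd_pow h))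
    exact Core.le_solvableRadical (N := ⊤) inferInstance (mem_top x)
  · set N := normalClosure ({x} : Set G) with hN
    have hxN : x ∈ N := subset_normalClosure rfl
    have hlt : Nat.card N < n := by
      rw [← hn]
      exact Finite.card_subtype_lt (p := (· ∈ N)) (x := ((SetLike.exists_of_lt
        (lt_top_iff_ne_top.2 htop)).choose)) (SetLike.exists_of_lt (lt_top_iff_ne_top.2 htop)).choose_spec.2
    have h1 := Cls.index_centralizer_normal_dvd (⟨x, hxN⟩ : N)
    rw [hk] at h1
    obtain ⟨k', -, hk'⟩ := (Nat.dvd_prime_pow hp).1 h1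
    have h2 := ih _ hlt N rfl ⟨x, hxN⟩ ⟨j, by rw [← hj, orderOf_mk]⟩ ⟨k', hk'⟩
    have h3 : x ∈ (solvableRadical N).map N.subtype := ⟨_, h2, rfl⟩
    rw [Core.map_solvableRadical_subtype_eq] at h3
    exact h3.1

/-- Kazarin: an element of prime power class size lies in the solvable radical. -/
theorem kazarin [Finite G] {x : G} {p k : ℕ} (hp : p.Prime)
    (hk : (centralizer ({x} : Set G)).index = p ^ k) : x ∈ solvableRadical G := by
  refine Cls.mem_of_forall_prime_pow fun q hq u hu hj => kazarin_aux hp hq _ G rfl u hj ?_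
  have h1 := index_dvd_of_le (Cls.centralizer_single_le_of_mem_zpowers hu)
  rw [hk] at h1
  obtain ⟨k', -, hk'⟩ := (Nat.dvd_prime_pow hp).1 h1
  exact ⟨k', hk'⟩

theorem isSolvable_normalClosure_of_index_pow [Finite G] {x : G} {p k : ℕ} (hp : p.Prime)
    (hk : (centralizer ({x} : Set G)).index = p ^ k) :
    Group.IsSolvable (normalClosure ({x} : Set G)) :=
  Core.le_solvableRadical_iff.1
    (normalClosure_le_normal (Set.singleton_subset_iff.2 (kazarin hp hk)))

end Cfsg.Agent.Char
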